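import Mathlib
import Groth.Agent.Lib.Helper9.Comod

/-!
# CKMM, part 1: the dual algebra of a cocommutative coalgebra, hits and annihilators
-/

set_option autoImplicit false

namespace Groth.Agent.Helper2.CKMM

open TensorProduct Coalgebra WithConv Groth.Agent.Helper9

universe u v w

section Tensor

variable {k : Type u} [Field k] {V : Type v} [AddCommGroup V] [Module k V]

/-- `(W ⊗ V) ∩ (V ⊗ W) = W ⊗ W` over a field. -/
lemma mem_range_map_subtype (W : Submodule k V) (t : V ⊗[k] V)
    (hL : t ∈ LinearMap.range (W.subtype.rTensor V))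
    (hR : t ∈ LinearMap.range (W.subtype.lTensor V)) :
    t ∈ LinearMap.range (TensorProduct.map W.subtype W.subtype) := by
  obtain ⟨P, hP⟩ := LinearMap.exists_leftInverse_of_injective W.subtype (Submodule.ker_subtype W)
  let e : V →ₗ[k] V := W.subtype ∘ₗ P
  have he : e ∘ₗ W.subtype = W.subtype := by
    rw [LinearMap.comp_assoc, hP, LinearMap.comp_id]
  have h1 : TensorProduct.map e LinearMap.id t = t := by
    obtain ⟨s, rfl⟩ := hL
    rw [LinearMap.rTensor, ← LinearMap.comp_apply, ← TensorProduct.map_comp, he,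
      LinearMap.id_comp]
  have h2 : TensorProduct.map LinearMap.id e t = t := by
    obtain ⟨s, rfl⟩ := hR
    rw [LinearMap.lTensor, ← LinearMap.comp_apply, ← TensorProduct.map_comp, he,
      LinearMap.id_comp]
  have h3 : TensorProduct.map e e t = t := by
    have : TensorProduct.map e e =
        TensorProduct.map e LinearMap.id ∘ₗ TensorProduct.map LinearMap.id e := by
      rw [← TensorProduct.map_comp, LinearMap.comp_id, LinearMap.id_comp]
    rw [this, LinearMap.comp_apply, h2, h1]
  refine ⟨TensorProduct.map P P t, ?_⟩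
  rw [← LinearMap.comp_apply, ← TensorProduct.map_comp]
  exact h3

/-- The swap of an element of `W ⊗ V` lies in `V ⊗ W`. -/
lemma comm_mem_range_lTensor (W : Submodule k V) (t : V ⊗[k] V)
    (hL : t ∈ LinearMap.range (W.subtype.rTensor V)) :
    TensorProduct.comm k V V t ∈ LinearMap.range (W.subtype.lTensor V) := by
  obtain ⟨s, rfl⟩ := hL
  refine ⟨TensorProduct.comm k W V s, ?_⟩
  induction s using TensorProduct.induction_on with
  | zero => simp
  | tmul a b => simp
  | add x y hx hy => simp only [map_add, hx, hy]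

/-- Functionals `G ⊗ f` evaluated through slices. -/
lemma apply_slice (G f : V →ₗ[k] k) (z : V ⊗[k] V) :
    G (slice f z) = LinearMap.mul' k k (TensorProduct.map G f z) := by
  induction z using TensorProduct.induction_on with
  | zero => simp
  | tmul a b => simp [mul_comm]
  | add x y hx hy => simp only [map_add, hx, hy]

/-- An element of `V ⊗ V` killed by all `G ⊗ f` is zero. -/
lemma eq_zero_of_forall_map (z : V ⊗[k] V)
    (h : ∀ G f : V →ₗ[k] k, LinearMap.mul' k k (TensorProduct.map G f z) = 0) : z = 0 := by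
  apply eq_zero_of_slice_eq_zero
  intro f
  rw [← Module.forall_dual_apply_eq_zero_iff k]
  intro G
  rw [← h G f]
  exact apply_slice G f z

end Tensor

section Coalg

variable {k : Type u} [Field k] {H : Type v} [AddCommGroup H] [Module k H] [Coalgebra k H]

/-- The right hit `h ↼ f = (id ⊗ f)(Δ h)`. -/
noncomputable def hit (f : WithConv (H →ₗ[k] k)) : H →ₗ[k] H :=
  slice f.ofConv ∘ₗ comul

lemma apply_hit (G f : WithConv (H →ₗ[k] k)) (h : H) :
    G.ofConv (hit f h) = (G * f).ofConv h := by
  rw [hit, LinearMap.comp_apply, apply_slice]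
  rfl

/-- The annihilator in `H` of a set of functionals. -/
def ann (J : Set (WithConv (H →ₗ[k] k))) : Submodule k H where
  carrier := {h | ∀ f ∈ J, f.ofConv h = 0}
  add_mem' := by
    intro a b ha hb f hf
    rw [map_add, ha f hf, hb f hf, add_zero]
  zero_mem' := by
    intro f _
    simp
  smul_mem' := by
    intro c x hx f hf
    rw [map_smul, hx f hf, smul_zero]

lemma mem_ann {J : Set (WithConv (H →ₗ[k] k))} {h : H} :
    h ∈ ann J ↔ ∀ f ∈ J, f.ofConv h = 0 := Iff.rfl

lemma ann_anti {J J' : Set (WithConv (H →ₗ[k] k))} (h : J ⊆ J') : ann J' ≤ ann J :=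
  fun _ hx f hf => hx f (h hf)

end Coalg

section Cocomm

variable {k : Type u} [Field k] {H : Type v} [AddCommGroup H] [Module k H] [Coalgebra k H]
  [IsCocomm k H]

lemma hit_mem_ann_of_mul (J J' : Ideal (WithConv (H →ₗ[k] k))) {h : H}
    (hh : h ∈ ann ((J * J' : Ideal (WithConv (H →ₗ[k] k))) : Set (WithConv (H →ₗ[k] k))))
    {f : WithConv (H →ₗ[k] k)} (hf : f ∈ J') :
    hit f h ∈ ann (J : Set (WithConv (H →ₗ[k] k))) := by
  intro G hG
  rw [apply_hit]
  exact hh _ (Ideal.mul_mem_mul hG hf)

lemma hit_mem_ann (J : Ideal (WithConv (H →ₗ[k] k))) {h : H}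
    (hh : h ∈ ann (J : Set (WithConv (H →ₗ[k] k)))) (f : WithConv (H →ₗ[k] k)) :
    hit f h ∈ ann (J : Set (WithConv (H →ₗ[k] k))) := by
  intro G hG
  rw [apply_hit]
  exact hh _ (J.mul_mem_right f hG)

/-- The annihilator of an ideal of the dual algebra is a subcoalgebra. -/
lemma comul_mem_range_map_ann (J : Ideal (WithConv (H →ₗ[k] k))) {c : H}
    (hc : c ∈ ann (J : Set (WithConv (H →ₗ[k] k)))) :
    comul (R := k) c ∈ LinearMap.range
      (TensorProduct.map (ann (J : Set (WithConv (H →ₗ[k] k)))).subtype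
        (ann (J : Set (WithConv (H →ₗ[k] k)))).subtype) := by
  have hR : comul (R := k) c ∈ LinearMap.range
      ((ann (J : Set (WithConv (H →ₗ[k] k)))).subtype.rTensor H) := by
    apply mem_range_rTensor_subtype_of_slice_mem
    intro g
    exact hit_mem_ann J hc (toConv g)
  refine mem_range_map_subtype _ _ hR ?_
  have := comm_mem_range_lTensor _ _ hR
  rwa [Coalgebra.comm_comul] at this

end Cocomm

section Bialg

variable {k : Type u} [Field k] {H : Type v} [Ring H] [Bialgebra k H]

/-- Evaluation at `1` as a linear functional on the dual. -/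
noncomputable def ev1Lin : WithConv (H →ₗ[k] k) →ₗ[k] k where
  toFun f := f.ofConv 1
  map_add' _ _ := rfl
  map_smul' _ _ := rfl

variable [IsCocomm k H]

/-- Evaluation at `1` as a ring homomorphism. -/
noncomputable def ev1 : WithConv (H →ₗ[k] k) →+* k where
  toFun f := f.ofConv 1
  map_one' := by
    change (1 : WithConv (H →ₗ[k] k)) (1 : H) = 1
    rw [LinearMap.convOne_apply]
    simp
  map_mul' f g := by
    change (f * g) (1 : H) = _
    rw [LinearMap.convMul_apply, Bialgebra.comul_one, Algebra.TensorProduct.one_def]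
    simp
  map_zero' := rfl
  map_add' _ _ := rfl

@[simp] lemma ev1_apply (f : WithConv (H →ₗ[k] k)) : ev1 f = f.ofConv 1 := rfl

variable (k H) in
/-- The augmentation ideal of the dual algebra. -/
noncomputable def mI : Ideal (WithConv (H →ₗ[k] k)) := RingHom.ker (ev1 (k := k) (H := H))

lemma mem_mI {f : WithConv (H →ₗ[k] k)} : f ∈ mI k H ↔ f.ofConv 1 = 0 := by
  rw [mI, RingHom.mem_ker, ev1_apply]

/-- the counit as an element of the dual -/
lemma one_ofConv_apply (h : H) : (1 : WithConv (H →ₗ[k] k)).ofConv h = counit (R := k) h := by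
  change (1 : WithConv (H →ₗ[k] k)) h = _
  rw [LinearMap.convOne_apply]
  simp

lemma sub_smul_one_mem_mI (f : WithConv (H →ₗ[k] k)) :
    f - (f.ofConv 1) • (1 : WithConv (H →ₗ[k] k)) ∈ mI k H := by
  rw [mem_mI, ofConv_sub, ofConv_smul, LinearMap.sub_apply, LinearMap.smul_apply, one_ofConv_apply]
  simp

lemma one_mem_ann {J : Ideal (WithConv (H →ₗ[k] k))} (hJ : J ≤ mI k H) :
    (1 : H) ∈ ann (J : Set (WithConv (H →ₗ[k] k))) :=
  fun _ hf => mem_mI.mp (hJ hf)

/-- `ann 𝔪 = k · 1`. -/
lemma eq_smul_one_of_mem_ann_mI {h : H}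
    (hh : h ∈ ann ((mI k H : Ideal (WithConv (H →ₗ[k] k))) : Set (WithConv (H →ₗ[k] k)))) :
    h = counit (R := k) h • (1 : H) := by
  rw [← sub_eq_zero, ← Module.forall_dual_apply_eq_zero_iff k]
  intro φ
  have h1 := hh _ (sub_smul_one_mem_mI (toConv φ))
  rw [ofConv_sub, ofConv_smul, LinearMap.sub_apply, LinearMap.smul_apply, one_ofConv_apply,
    ofConv_toConv] at h1
  rw [map_sub, map_smul, sub_eq_zero]
  rw [sub_eq_zero] at h1
  rw [h1, smul_eq_mul, smul_eq_mul, mul_comm]

end Bialg

end Groth.Agent.Helper2.CKMM
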