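import Mathlib
import Groth.Prelude.Def_SGA3y
import Groth.Agent.Lib.Helper9.Comod
import Groth.Agent.Lib.Helper2.CKMM.Dual

/-!
# CKMM, part 3: for a connected cocommutative bialgebra the filtration `ann 𝔪^N` is exhaustive
-/

set_option autoImplicit false

namespace Groth.Agent.Helper2.CKMM

open TensorProduct Coalgebra WithConv Groth.Agent.Helper9

universe u v

variable {k : Type u} [Field k] {H : Type v} [Ring H] [Bialgebra k H] [IsCocomm k H]

/-- Functionals vanishing on a right coideal form an ideal of the dual algebra. -/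
noncomputable def perp (C : Submodule k H)
    (hC : ∀ c ∈ C, comul (R := k) c ∈ LinearMap.range (C.subtype.rTensor H)) :
    Ideal (WithConv (H →ₗ[k] k)) where
  carrier := {f | ∀ c ∈ C, f.ofConv c = 0}
  add_mem' := by
    intro a b ha hb c hc
    rw [ofConv_add, LinearMap.add_apply, ha c hc, hb c hc, add_zero]
  zero_mem' := by
    intro c _
    rfl
  smul_mem' := by
    intro g f hf c hc
    rw [smul_eq_mul, mul_comm]
    change (f * g) c = 0
    rw [LinearMap.convMul_apply]
    obtain ⟨s, hs⟩ := hC c hc
    rw [← hs]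
    clear hs
    induction s using TensorProduct.induction_on with
    | zero => simp
    | tmul a b =>
      simp only [LinearMap.rTensor_tmul, Submodule.subtype_apply, TensorProduct.map_tmul,
        LinearMap.mul'_apply]
      rw [hf a.1 a.2, zero_mul]
    | add x y hx hy => simp only [map_add, hx, hy, add_zero]

lemma mem_perp {C : Submodule k H}
    {hC : ∀ c ∈ C, comul (R := k) c ∈ LinearMap.range (C.subtype.rTensor H)}
    {f : WithConv (H →ₗ[k] k)} : f ∈ perp C hC ↔ ∀ c ∈ C, f.ofConv c = 0 := Iff.rfl

/-- restriction of functionals to a subspace -/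
noncomputable def res (C : Submodule k H) : WithConv (H →ₗ[k] k) →ₗ[k] Module.Dual k C where
  toFun f := f.ofConv ∘ₗ C.subtype
  map_add' _ _ := rfl
  map_smul' _ _ := rfl

lemma res_surjective (C : Submodule k H) : Function.Surjective (res (k := k) C) := by
  intro φ
  obtain ⟨ψ, hψ⟩ := LinearMap.exists_extend φ
  exact ⟨toConv ψ, hψ⟩

variable (hconn : SGA3y.IsConnectedCoalg k H)
include hconn

/-- A proper ideal of the dual algebra containing the functionals vanishing on a finite-dimensional
right coideal is contained in the augmentation ideal. -/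
lemma le_mI_of_perp_le (C : Submodule k H) [Module.Finite k C]
    (hC : ∀ c ∈ C, comul (R := k) c ∈ LinearMap.range (C.subtype.rTensor H))
    (J : Ideal (WithConv (H →ₗ[k] k))) (hJ : J ≠ ⊤) (hle : perp C hC ≤ J) :
    J ≤ mI k H := by
  -- the annihilator of `J` is nonzero
  have hne : ann (J : Set (WithConv (H →ₗ[k] k))) ≠ ⊥ := by
    intro hbot
    apply hJ
    let W : Subspace k (Module.Dual k C) := Submodule.map (res C) (J.restrictScalars k)
    have hW : W.dualCoannihilator = ⊥ := by
      rw [eq_bot_iff]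
      intro c hc
      rw [Submodule.mem_dualCoannihilator] at hc
      have hc' : (c : H) ∈ ann (J : Set (WithConv (H →ₗ[k] k))) := by
        intro f hf
        exact hc (res C f) ⟨f, hf, rfl⟩
      rw [hbot, Submodule.mem_bot] at hc'
      rw [Submodule.mem_bot]
      exact Subtype.ext hc'
    have hW' : W = ⊤ := by
      rw [← Subspace.dualCoannihilator_dualAnnihilator_eq (W := W), hW,
        Submodule.dualAnnihilator_bot]
    rw [eq_top_iff]
    intro f _
    have hf : res C f ∈ W := by rw [hW']; trivial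
    obtain ⟨j, hj, hjf⟩ := hf
    have hsub : f - j ∈ perp C hC := by
      intro c hc
      have := LinearMap.congr_fun hjf ⟨c, hc⟩
      simp only [res, LinearMap.coe_mk, AddHom.coe_mk, LinearMap.comp_apply,
        Submodule.subtype_apply] at this
      rw [ofConv_sub, LinearMap.sub_apply, this, sub_self]
    have : f = (f - j) + j := by abel
    rw [this]
    exact J.add_mem (hle hsub) hj
  have h1 : (1 : H) ∈ ann (J : Set (WithConv (H →ₗ[k] k))) :=
    hconn _ (fun d hd => comul_mem_range_map_ann J hd) hne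
  intro f hf
  exact mem_mI.mpr (h1 f hf)

omit hconn in
/-- If the quotient of the dual algebra by `P` is finite-dimensional and the augmentation ideal is
the only maximal ideal above `P`, a power of the augmentation ideal lies in `P`. -/
lemma exists_pow_le_of_finite (P : Ideal (WithConv (H →ₗ[k] k)))
    [Module.Finite k (WithConv (H →ₗ[k] k) ⧸ P)]
    (hmax : ∀ 𝔫 : Ideal (WithConv (H →ₗ[k] k)), 𝔫.IsMaximal → P ≤ 𝔫 → mI k H ≤ 𝔫) :
    ∃ N : ℕ, (mI k H) ^ N ≤ P := by
  haveI : IsArtinianRing (WithConv (H →ₗ[k] k) ⧸ P) := IsArtinianRing.of_finite k _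
  have hjac : (mI k H).map (Ideal.Quotient.mk P) ≤
      Ideal.jacobson (⊥ : Ideal (WithConv (H →ₗ[k] k) ⧸ P)) := by
    rw [Ideal.jacobson]
    refine le_sInf ?_
    rintro 𝔫 ⟨-, hm⟩
    haveI := hm
    rw [Ideal.map_le_iff_le_comap]
    have hcm : (Ideal.comap (Ideal.Quotient.mk P) 𝔫).IsMaximal :=
      Ideal.comap_isMaximal_of_surjective _ Ideal.Quotient.mk_surjective
    have hle : P ≤ Ideal.comap (Ideal.Quotient.mk P) 𝔫 := by
      intro f hf
      rw [Ideal.mem_comap, Ideal.Quotient.eq_zero_iff_mem.mpr hf]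
      exact 𝔫.zero_mem
    exact hmax _ hcm hle
  obtain ⟨N, hN⟩ := IsArtinianRing.isNilpotent_jacobson_bot (R := WithConv (H →ₗ[k] k) ⧸ P)
  refine ⟨N, fun F hF => ?_⟩
  have h5 := Ideal.mem_map_of_mem (Ideal.Quotient.mk P) hF
  have h6 : Ideal.map (Ideal.Quotient.mk P) (mI k H ^ N) =
      (Ideal.map (Ideal.Quotient.mk P) (mI k H)) ^ N :=
    Ideal.map_pow (Ideal.Quotient.mk P) (mI k H) N
  rw [h6] at h5
  have h4 := Ideal.pow_right_mono hjac N h5
  rw [hN, Ideal.zero_eq_bot, Ideal.mem_bot] at h4
  exact Ideal.Quotient.eq_zero_iff_mem.mp h4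

/-- **Exhaustiveness.** Every element of a connected cocommutative bialgebra is killed by a power
of the augmentation ideal of the dual algebra. -/
theorem exists_mem_ann_pow (h : H) :
    ∃ N : ℕ, h ∈ ann (((mI k H) ^ N : Ideal (WithConv (H →ₗ[k] k))) :
      Set (WithConv (H →ₗ[k] k))) := by
  obtain ⟨C, hfin, hhC, hsub⟩ := exists_finite_subcomod_mem (k := k) (C := H) (V := H) h
  have hC : ∀ c ∈ C, comul (R := k) c ∈ LinearMap.range (C.subtype.rTensor H) := hsub
  -- the quotient is finite-dimensional
  have hker : (perp C hC).restrictScalars k ≤ LinearMap.ker (res (k := k) C) := by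
    intro f hf
    rw [LinearMap.mem_ker]
    ext c
    exact hf c.1 c.2
  have hρ' : Function.Injective ((Submodule.liftQ ((perp C hC).restrictScalars k) (res C) hker) ∘ₗ
      (Submodule.Quotient.restrictScalarsEquiv k (perp C hC)).symm.toLinearMap) := by
    rw [← LinearMap.ker_eq_bot, eq_bot_iff]
    intro x hx
    obtain ⟨f, rfl⟩ := Ideal.Quotient.mk_surjective x
    rw [LinearMap.mem_ker] at hx
    have h2 : res (k := k) C f = 0 := hx
    rw [Submodule.mem_bot]
    refine (Ideal.Quotient.eq_zero_iff_mem).mpr ?_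
    intro c hc
    have := LinearMap.congr_fun h2 ⟨c, hc⟩
    exact this
  haveI : Module.Finite k (WithConv (H →ₗ[k] k) ⧸ perp C hC) :=
    Module.Finite.of_injective _ hρ'
  have hmne : mI k H ≠ ⊤ := by
    intro htop
    have : (1 : WithConv (H →ₗ[k] k)) ∈ mI k H := by rw [htop]; trivial
    rw [mem_mI, one_ofConv_apply, Bialgebra.counit_one] at this
    exact one_ne_zero this
  obtain ⟨N, hN⟩ := exists_pow_le_of_finite (perp C hC) (fun 𝔫 hm hle => by
    have h1 := le_mI_of_perp_le hconn C hC 𝔫 hm.ne_top hle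
    exact (hm.eq_of_le hmne h1).ge)
  exact ⟨N, fun F hF => hN hF h hhC⟩

end Groth.Agent.Helper2.CKMM
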