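import Mathlib
import Groth.Prelude.Def_SGA3y
import Groth.Agent.Lib.Helper2.CKMM.Dual

/-!
# CKMM, part 2: `ann 𝔪² = k·1 ⊕ P(H)`
-/

set_option autoImplicit false

attribute [local instance] LieRing.ofAssociativeRing

namespace Groth.Agent.Helper2.CKMM

open TensorProduct Coalgebra WithConv Groth.Agent.Helper9

universe u v

variable {k : Type u} [Field k] {H : Type v} [Ring H] [Bialgebra k H]

lemma mem_primLie {x : H} :
    x ∈ SGA3y.primLie k H ↔ comul (R := k) x = x ⊗ₜ[k] (1 : H) + (1 : H) ⊗ₜ[k] x := Iff.rfl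

lemma counit_eq_zero_of_mem_primLie {x : H} (hx : x ∈ SGA3y.primLie k H) :
    counit (R := k) x = 0 := by
  have h := Coalgebra.rTensor_counit_comul (R := k) x
  rw [mem_primLie.mp hx, map_add, LinearMap.rTensor_tmul, LinearMap.rTensor_tmul,
    Bialgebra.counit_one] at h
  have h2 := congrArg (TensorProduct.lid k H) h
  simp only [map_add, TensorProduct.lid_tmul, one_smul] at h2
  have h3 : counit (R := k) x • (1 : H) = 0 := by
    have : counit (R := k) x • (1 : H) + x = x := h2
    simpa using this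
  have h4 := congrArg (counit (R := k)) h3
  simpa using h4

variable [IsCocomm k H]

/-- The structure of the comultiplication on `ann 𝔪²`. -/
lemma comul_of_mem_ann_mI_sq {h : H}
    (hh : h ∈ ann (((mI k H) ^ 2 : Ideal (WithConv (H →ₗ[k] k))) : Set (WithConv (H →ₗ[k] k)))) :
    comul (R := k) h = h ⊗ₜ[k] (1 : H) + (1 : H) ⊗ₜ[k] h -
      counit (R := k) h • ((1 : H) ⊗ₜ[k] (1 : H)) := by
  rw [← sub_eq_zero]
  apply eq_zero_of_forall_map
  intro G f
  have hmem : (toConv G - (G 1) • (1 : WithConv (H →ₗ[k] k))) *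
      (toConv f - (f 1) • (1 : WithConv (H →ₗ[k] k))) ∈ (mI k H) ^ 2 := by
    rw [pow_two]
    exact Ideal.mul_mem_mul (sub_smul_one_mem_mI (toConv G)) (sub_smul_one_mem_mI (toConv f))
  have h0 := hh _ hmem
  simp only [sub_mul, mul_sub, smul_mul_assoc, mul_smul_comm, one_mul, mul_one, ofConv_sub,
    ofConv_smul, LinearMap.sub_apply, LinearMap.smul_apply, one_ofConv_apply,
    smul_eq_mul] at h0
  have h1 : (toConv G * toConv f).ofConv h =
      LinearMap.mul' k k (TensorProduct.map G f (comul (R := k) h)) := rfl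
  rw [h1] at h0
  simp only [map_sub, map_add, map_smul, TensorProduct.map_tmul, LinearMap.mul'_apply,
    smul_eq_mul]
  linear_combination h0

/-- `ann 𝔪² ⊆ k·1 + P(H)`. -/
lemma sub_counit_mem_primLie {h : H}
    (hh : h ∈ ann (((mI k H) ^ 2 : Ideal (WithConv (H →ₗ[k] k))) : Set (WithConv (H →ₗ[k] k)))) :
    h - counit (R := k) h • (1 : H) ∈ SGA3y.primLie k H := by
  rw [mem_primLie, map_sub, map_smul, Bialgebra.comul_one, comul_of_mem_ann_mI_sq hh,
    Algebra.TensorProduct.one_def, TensorProduct.sub_tmul, TensorProduct.tmul_sub]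
  simp only [← TensorProduct.smul_tmul', TensorProduct.tmul_smul]
  module

/-- primitive elements lie in `ann 𝔪²` -/
lemma primLie_le_ann_mI_sq {x : H} (hx : x ∈ SGA3y.primLie k H) :
    x ∈ ann (((mI k H) ^ 2 : Ideal (WithConv (H →ₗ[k] k))) : Set (WithConv (H →ₗ[k] k))) := by
  intro F hF
  rw [pow_two] at hF
  refine Submodule.mul_induction_on hF ?_ ?_
  · intro f hf g hg
    change (f * g) x = 0
    rw [LinearMap.convMul_apply, mem_primLie.mp hx]
    simp only [map_add, TensorProduct.map_tmul, LinearMap.mul'_apply]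
    rw [mem_mI.mp hf, mem_mI.mp hg]
    simp
  · intro a b ha hb
    rw [ofConv_add, LinearMap.add_apply, ha, hb, add_zero]

end Groth.Agent.Helper2.CKMM
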