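import Mathlib
import Groth.Prelude.Def_SGA3y
import Groth.Agent.Lib.Helper2.CKMM.Dual
import Groth.Agent.Lib.Helper2.CKMM.Prim
import Groth.Agent.Lib.Helper2.CKMM.Exhaust

/-!
# CKMM, part 4: a connected cocommutative bialgebra in characteristic zero is generated by its
primitive elements
-/

set_option autoImplicit false

attribute [local instance] LieRing.ofAssociativeRing

namespace Groth.Agent.Helper2.CKMM

open TensorProduct Coalgebra WithConv Groth.Agent.Helper9

universe u v

variable {k : Type u} [Field k] {H : Type v} [Ring H] [Bialgebra k H] [IsCocomm k H]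

/-- `A n = ann 𝔪^n`. -/
noncomputable abbrev A (k : Type u) [Field k] (H : Type v) [Ring H] [Bialgebra k H] [IsCocomm k H]
    (n : ℕ) : Submodule k H :=
  ann (((mI k H) ^ n : Ideal (WithConv (H →ₗ[k] k))) : Set (WithConv (H →ₗ[k] k)))

lemma A_mono {m n : ℕ} (h : m ≤ n) : A k H m ≤ A k H n :=
  ann_anti (fun _ hf => Ideal.pow_le_pow_right h hf)

lemma one_mem_A {n : ℕ} (hn : 1 ≤ n) : (1 : H) ∈ A k H n :=
  one_mem_ann (by
    calc (mI k H) ^ n ≤ (mI k H) ^ 1 := Ideal.pow_le_pow_right hn
      _ = mI k H := pow_one (mI k H))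

lemma A_zero : A k H 0 = ⊥ := by
  rw [eq_bot_iff]
  intro h hh
  rw [Submodule.mem_bot, ← Module.forall_dual_apply_eq_zero_iff k]
  intro φ
  have h0 : (mI k H) ^ 0 = ⊤ := by
    have := pow_zero (mI k H)
    rw [Ideal.one_eq_top] at this
    exact this
  exact hh (toConv φ) (by rw [h0]; trivial)

lemma hit_mem_A {n : ℕ} {x : H} (hx : x ∈ A k H (n + 1)) {f : WithConv (H →ₗ[k] k)}
    (hf : f ∈ mI k H) : hit f x ∈ A k H n := by
  apply hit_mem_ann_of_mul ((mI k H) ^ n) (mI k H) _ hf
  have : (mI k H) ^ n * mI k H = (mI k H) ^ (n + 1) := (pow_succ (mI k H) n).symm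
  rw [this]
  exact hx

lemma hit_pow_mem_A {a b : ℕ} {x : H} (hx : x ∈ A k H (a + b)) {f : WithConv (H →ₗ[k] k)}
    (hf : f ∈ (mI k H) ^ a) : hit f x ∈ A k H b := by
  apply hit_mem_ann_of_mul ((mI k H) ^ b) ((mI k H) ^ a) _ hf
  have : (mI k H) ^ b * (mI k H) ^ a = (mI k H) ^ (a + b) := by
    rw [pow_add (mI k H) a b]
    exact Ideal.mul_comm _ _
  rw [this]
  exact hx

/-- functionals vanishing on `A n` -/
def van (k : Type u) [Field k] (H : Type v) [Ring H] [Bialgebra k H] [IsCocomm k H] (n : ℕ) :
    Submodule k (WithConv (H →ₗ[k] k)) where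
  carrier := {f | ∀ x ∈ A k H n, f.ofConv x = 0}
  add_mem' := by
    intro a b ha hb x hx
    rw [ofConv_add, LinearMap.add_apply, ha x hx, hb x hx, add_zero]
  zero_mem' := fun _ _ => rfl
  smul_mem' := by
    intro c f hf x hx
    rw [ofConv_smul, LinearMap.smul_apply, hf x hx, smul_zero]

lemma mem_van {n : ℕ} {f : WithConv (H →ₗ[k] k)} :
    f ∈ van k H n ↔ ∀ x ∈ A k H n, f.ofConv x = 0 := Iff.rfl

lemma pow_le_van (n : ℕ) {f : WithConv (H →ₗ[k] k)} (hf : f ∈ (mI k H) ^ n) : f ∈ van k H n :=
  fun _ hx => hx f hf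

lemma van_anti {m n : ℕ} (h : m ≤ n) : van k H n ≤ van k H m :=
  fun _ hf x hx => hf x (A_mono h hx)

lemma mul_mem_van {a b : ℕ} {f g : WithConv (H →ₗ[k] k)} (hf : f ∈ van k H a)
    (hg : g ∈ van k H b) : f * g ∈ van k H (a + b) := by
  intro x hx
  rw [← apply_hit]
  apply hf
  intro F hF
  rw [apply_hit, mul_comm, ← apply_hit]
  exact hg _ (hit_pow_mem_A hx hF)

/-- The square map `Ψ² = m ∘ Δ` as a coalgebra homomorphism. -/
noncomputable def psi2 : H →ₗc[k] H := (Bialgebra.mulCoalgHom k H).comp (comulCoalgHom k H)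

lemma psi2_apply (x : H) : psi2 (k := k) x = LinearMap.mul' k H (comul (R := k) x) := rfl

lemma psi2_one : psi2 (k := k) (1 : H) = 1 := by
  rw [psi2_apply, Bialgebra.comul_one, Algebra.TensorProduct.one_def]
  simp

lemma psi2_prim {x : H} (hx : x ∈ SGA3y.primLie k H) : psi2 (k := k) x = (2 : k) • x := by
  rw [psi2_apply, mem_primLie.mp hx]
  simp [two_smul]

/-- Precomposition with `Ψ²`. -/
noncomputable def T (F : WithConv (H →ₗ[k] k)) : WithConv (H →ₗ[k] k) :=
  toConv (F.ofConv ∘ₗ (psi2 (k := k) (H := H)).toLinearMap)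

lemma T_apply (F : WithConv (H →ₗ[k] k)) (x : H) : (T F).ofConv x = F.ofConv (psi2 (k := k) x) :=
  rfl

lemma T_mul (F G : WithConv (H →ₗ[k] k)) : T (F * G) = T F * T G := by
  apply WithConv.ofConv_injective
  exact LinearMap.convMul_comp_coalgHom_distrib F G (psi2 (k := k) (H := H))

lemma T_add (F G : WithConv (H →ₗ[k] k)) : T (F + G) = T F + T G := rfl

lemma T_mem_mI {ψ : WithConv (H →ₗ[k] k)} (hψ : ψ ∈ mI k H) : T ψ ∈ mI k H := by
  rw [mem_mI, T_apply, psi2_one]
  exact mem_mI.mp hψ

lemma T_sub_two_mem_van {ψ : WithConv (H →ₗ[k] k)} (hψ : ψ ∈ mI k H) :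
    T ψ - (2 : k) • ψ ∈ van k H 2 := by
  intro y hy
  have hp := sub_counit_mem_primLie hy
  have hy' : y = (y - counit (R := k) y • (1 : H)) + counit (R := k) y • (1 : H) := by abel
  rw [ofConv_sub, ofConv_smul, LinearMap.sub_apply, LinearMap.smul_apply, T_apply]
  conv_lhs => rw [hy']
  rw [map_add, map_smul, psi2_one, psi2_prim hp, map_add, map_add, map_smul, map_smul,
    mem_mI.mp hψ]
  simp

/-- `T F ≡ 2^n F` on `A (n+1)` for `F ∈ 𝔪^n`. -/
lemma T_sub_pow_mem_van (n : ℕ) : ∀ F ∈ (mI k H) ^ n, T F - (2 : k) ^ n • F ∈ van k H (n + 1) := by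
  induction n with
  | zero =>
    intro F _ x hx
    have hx1 : x = counit (R := k) x • (1 : H) := by
      apply eq_smul_one_of_mem_ann_mI
      have : (mI k H) ^ (0 + 1) = mI k H := by rw [zero_add]; exact pow_one (mI k H)
      rw [← this]
      exact hx
    rw [ofConv_sub, ofConv_smul, LinearMap.sub_apply, LinearMap.smul_apply, T_apply, hx1,
      map_smul, psi2_one]
    simp
  | succ n ih =>
    intro F hF
    rw [pow_succ (mI k H) n] at hF
    refine Submodule.mul_induction_on hF ?_ ?_
    · intro G hG ψ hψ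
      have h1 : T (G * ψ) - (2 : k) ^ (n + 1) • (G * ψ) =
          (T G - (2 : k) ^ n • G) * T ψ + ((2 : k) ^ n • G) * (T ψ - (2 : k) • ψ) := by
        rw [T_mul, sub_mul, mul_sub, smul_mul_assoc, smul_mul_assoc, mul_smul_comm, smul_smul,
          pow_succ]
        abel
      rw [h1]
      refine Submodule.add_mem _ ?_ ?_
      · have := mul_mem_van (ih G hG) (pow_le_van 1 (by rw [pow_one (mI k H)]; exact T_mem_mI hψ))
        exact this
      · have h2 : (2 : k) ^ n • G ∈ van k H n :=
          Submodule.smul_mem _ _ (pow_le_van n hG)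
        have := mul_mem_van h2 (T_sub_two_mem_van hψ)
        exact this
    · intro a b ha hb
      have : T (a + b) - (2 : k) ^ (n + 1) • (a + b) =
          (T a - (2 : k) ^ (n + 1) • a) + (T b - (2 : k) ^ (n + 1) • b) := by
        rw [T_add, smul_add]
        abel
      rw [this]
      exact Submodule.add_mem _ ha hb

/-- **F3.** On `A (n+1)` the square map is `2^n` modulo `A n`. -/
lemma psi2_sub_pow_mem_A {n : ℕ} {x : H} (hx : x ∈ A k H (n + 1)) :
    psi2 (k := k) x - (2 : k) ^ n • x ∈ A k H n := by
  intro F hF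
  have := T_sub_pow_mem_van n F hF x hx
  rw [ofConv_sub, ofConv_smul, LinearMap.sub_apply, LinearMap.smul_apply, T_apply] at this
  rw [map_sub, map_smul]
  exact this

/-- `π = id - η ∘ ε`. -/
noncomputable def piMap : H →ₗ[k] H := LinearMap.id - (Algebra.linearMap k H) ∘ₗ counit

lemma piMap_apply (x : H) : piMap (k := k) x = x - counit (R := k) x • (1 : H) := by
  simp [piMap, Algebra.algebraMap_eq_smul_one]

lemma slice_map_piMap (g : H →ₗ[k] k) (z : H ⊗[k] H) :
    slice g (TensorProduct.map (piMap (k := k)) (piMap (k := k)) z) =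
      piMap (k := k) (slice (g ∘ₗ piMap (k := k)) z) := by
  induction z using TensorProduct.induction_on with
  | zero => simp
  | tmul a b => simp
  | add x y hx hy => simp only [map_add, hx, hy]

lemma comp_piMap_mem_mI (g : H →ₗ[k] k) : toConv (g ∘ₗ piMap (k := k)) ∈ mI k H := by
  rw [mem_mI, ofConv_toConv, LinearMap.comp_apply, piMap_apply, Bialgebra.counit_one, one_smul,
    sub_self, map_zero]

lemma piMap_mem_A {n : ℕ} (hn : 1 ≤ n) {y : H} (hy : y ∈ A k H n) :
    piMap (k := k) y ∈ A k H n := by
  rw [piMap_apply]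
  exact Submodule.sub_mem _ hy (Submodule.smul_mem _ _ (one_mem_A hn))

lemma map_piMap_comul_mem {n : ℕ} (hn : 1 ≤ n) {x : H} (hx : x ∈ A k H (n + 1)) :
    TensorProduct.map (piMap (k := k)) (piMap (k := k)) (comul (R := k) x) ∈
      LinearMap.range (TensorProduct.map (A k H n).subtype (A k H n).subtype) := by
  have hR : TensorProduct.map (piMap (k := k)) (piMap (k := k)) (comul (R := k) x) ∈
      LinearMap.range ((A k H n).subtype.rTensor H) := by
    apply mem_range_rTensor_subtype_of_slice_mem
    intro g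
    rw [slice_map_piMap]
    apply piMap_mem_A hn
    exact hit_mem_A hx (comp_piMap_mem_mI g)
  refine mem_range_map_subtype _ _ hR ?_
  have h1 := comm_mem_range_lTensor _ _ hR
  have h2 : TensorProduct.comm k H H
      (TensorProduct.map (piMap (k := k)) (piMap (k := k)) (comul (R := k) x)) =
      TensorProduct.map (piMap (k := k)) (piMap (k := k)) (comul (R := k) x) := by
    conv_rhs => rw [← Coalgebra.comm_comul (R := k) x]
    generalize comul (R := k) x = z
    induction z using TensorProduct.induction_on with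
    | zero => simp
    | tmul a b => simp
    | add x y hx hy => simp only [map_add, hx, hy]
  rwa [h2] at h1

lemma mul'_map_piMap_comul (x : H) :
    LinearMap.mul' k H (TensorProduct.map (piMap (k := k)) (piMap (k := k)) (comul (R := k) x)) =
      psi2 (k := k) x - (2 : k) • x + counit (R := k) x • (1 : H) := by
  let a : WithConv (H →ₗ[k] H) := toConv LinearMap.id
  have h1 : toConv (piMap (k := k) (H := H)) = a - 1 := rfl
  have h2 : LinearMap.mul' k H
      (TensorProduct.map (piMap (k := k)) (piMap (k := k)) (comul (R := k) x)) =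
      ((a - 1) * (a - 1)) x := rfl
  have h3 : (a - 1) * (a - 1) = a * a - a - a + 1 := by
    rw [sub_mul, mul_sub, mul_sub, one_mul, mul_one, mul_one]
    abel
  have h4 : (a * a) x = psi2 (k := k) x := by
    rw [LinearMap.convMul_apply, psi2_apply]
    simp [a]
  rw [h2, h3]
  change (a * a) x - x - x + (1 : WithConv (H →ₗ[k] H)) x = _
  rw [h4, LinearMap.convOne_apply, Algebra.algebraMap_eq_smul_one, two_smul]
  abel

lemma mul'_mem_of_mem_range_map (H' : Subalgebra k H) (W : Submodule k H)
    (hW : W ≤ Subalgebra.toSubmodule H') {z : H ⊗[k] H}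
    (hz : z ∈ LinearMap.range (TensorProduct.map W.subtype W.subtype)) :
    LinearMap.mul' k H z ∈ H' := by
  obtain ⟨s, rfl⟩ := hz
  induction s using TensorProduct.induction_on with
  | zero => simp
  | tmul a b =>
    simp only [TensorProduct.map_tmul, Submodule.subtype_apply, LinearMap.mul'_apply]
    exact H'.mul_mem (hW a.2) (hW b.2)
  | add x y hx hy =>
    rw [map_add, map_add]
    exact H'.add_mem hx hy

/-- **Generation by primitives.** A subalgebra of a connected cocommutative bialgebra over a field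
of characteristic zero which contains all primitive elements is everything. -/
theorem subalgebra_eq_top [CharZero k] (hconn : SGA3y.IsConnectedCoalg k H) (H' : Subalgebra k H)
    (hP : ∀ x ∈ SGA3y.primLie k H, x ∈ H') : H' = ⊤ := by
  have key : ∀ n : ℕ, A k H n ≤ Subalgebra.toSubmodule H' := by
    intro n
    induction n with
    | zero => rw [A_zero]; exact bot_le
    | succ n ih =>
      intro x hx
      rcases Nat.lt_or_ge n 2 with hn | hn
      · interval_cases n
        · have hx1 : x = counit (R := k) x • (1 : H) := by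
            apply eq_smul_one_of_mem_ann_mI
            have : (mI k H) ^ (0 + 1) = mI k H := by rw [zero_add]; exact pow_one (mI k H)
            rw [← this]
            exact hx
          rw [hx1]
          exact H'.smul_mem H'.one_mem _
        · have hp := hP _ (sub_counit_mem_primLie hx)
          have hx' : x = (x - counit (R := k) x • (1 : H)) + counit (R := k) x • (1 : H) := by abel
          rw [hx']
          exact H'.add_mem hp (H'.smul_mem H'.one_mem _)
      · have h1 : psi2 (k := k) x - (2 : k) ^ n • x ∈ H' := ih (psi2_sub_pow_mem_A hx)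
        have h2 : psi2 (k := k) x - (2 : k) • x + counit (R := k) x • (1 : H) ∈ H' := by
          rw [← mul'_map_piMap_comul]
          exact mul'_mem_of_mem_range_map H' _ ih (map_piMap_comul_mem (by omega) hx)
        have h3 : ((2 : k) ^ n - 2) • x ∈ H' := by
          have : ((2 : k) ^ n - 2) • x =
              (psi2 (k := k) x - (2 : k) • x + counit (R := k) x • (1 : H)) -
                (psi2 (k := k) x - (2 : k) ^ n • x) - counit (R := k) x • (1 : H) := by
            rw [sub_smul]
            abel
          rw [this]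
          exact H'.sub_mem (H'.sub_mem h2 h1) (H'.smul_mem H'.one_mem _)
        have hne : ((2 : k) ^ n - 2) ≠ 0 := by
          rw [sub_ne_zero]
          intro h
          have h' : ((2 ^ n : ℕ) : k) = ((2 : ℕ) : k) := by push_cast; exact h
          have h'' := Nat.cast_injective h'
          have : n = 1 := Nat.pow_right_injective (le_refl 2) (by simpa using h'')
          omega
        have : x = ((2 : k) ^ n - 2)⁻¹ • (((2 : k) ^ n - 2) • x) := by
          rw [smul_smul, inv_mul_cancel₀ hne, one_smul]
        rw [this]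
        exact H'.smul_mem h3 _
  rw [eq_top_iff]
  intro h _
  obtain ⟨N, hN⟩ := exists_mem_ann_pow hconn h
  exact key N hN

end Groth.Agent.Helper2.CKMM
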