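import Mathlib
import Groth.Prelude.Def_SGA3y
import Groth.Agent.Lib.Helper2.CKMM.Dual
import Groth.Agent.Lib.Helper2.CKMM.Prim
import Groth.Agent.Lib.Helper2.CKMM.Surj

/-!
# CKMM, part 5: powers of primitive elements
-/

set_option autoImplicit false

attribute [local instance] LieRing.ofAssociativeRing

namespace Groth.Agent.Helper2.CKMM

open TensorProduct Coalgebra WithConv Groth.Agent.Helper9

universe u v

variable {k : Type u} [Field k] {H : Type v} [Ring H] [Bialgebra k H]

/-- The comultiplication of a power of a primitive element. -/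
lemma comul_pow_prim {x : H} (hx : x ∈ SGA3y.primLie k H) (n : ℕ) :
    comul (R := k) (x ^ n) =
      ∑ m ∈ Finset.range (n + 1), (n.choose m) • ((x ^ m) ⊗ₜ[k] (x ^ (n - m))) := by
  have h1 : comul (R := k) (x ^ n) = (comul (R := k) x) ^ n := by
    have := map_pow (Bialgebra.comulAlgHom k H) x n
    exact this
  have hc : Commute (x ⊗ₜ[k] (1 : H)) ((1 : H) ⊗ₜ[k] x) := by
    simp only [Commute, SemiconjBy, Algebra.TensorProduct.tmul_mul_tmul, one_mul, mul_one]
  rw [h1, mem_primLie.mp hx, hc.add_pow]
  refine Finset.sum_congr rfl fun m _ => ?_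
  rw [Algebra.TensorProduct.tmul_pow, Algebra.TensorProduct.tmul_pow, one_pow, one_pow,
    Algebra.TensorProduct.tmul_mul_tmul, mul_one, one_mul, nsmul_eq_mul]
  exact (Nat.cast_commute _ _).eq.symm

variable [IsCocomm k H]

lemma psi2_pow_prim {x : H} (hx : x ∈ SGA3y.primLie k H) (n : ℕ) :
    psi2 (k := k) (x ^ n) = ((2 : k) ^ n) • x ^ n := by
  rw [psi2_apply, comul_pow_prim hx, map_sum]
  have : ∀ m ∈ Finset.range (n + 1),
      LinearMap.mul' k H ((n.choose m) • ((x ^ m) ⊗ₜ[k] (x ^ (n - m)))) = (n.choose m) • x ^ n := by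
    intro m hm
    rw [map_nsmul, LinearMap.mul'_apply, ← pow_add]
    congr 2
    have := Finset.mem_range.mp hm
    omega
  rw [Finset.sum_congr rfl this, ← Finset.sum_smul, Nat.sum_range_choose,
    ← Nat.cast_smul_eq_nsmul k]
  push_cast
  rfl

/-- Convolution of two functionals evaluated on a power of a primitive element. -/
lemma conv_apply_pow_prim {x : H} (hx : x ∈ SGA3y.primLie k H) (n : ℕ)
    (ψ G : WithConv (H →ₗ[k] k)) :
    (ψ * G).ofConv (x ^ n) =
      ∑ m ∈ Finset.range (n + 1), (n.choose m : k) * (ψ.ofConv (x ^ m) * G.ofConv (x ^ (n - m))) := by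
  change (ψ * G) (x ^ n) = _
  rw [LinearMap.convMul_apply, comul_pow_prim hx, map_sum, map_sum]
  refine Finset.sum_congr rfl fun m _ => ?_
  rw [map_nsmul, map_nsmul, TensorProduct.map_tmul, LinearMap.mul'_apply, nsmul_eq_mul]

/-- A product of `> j` functionals in the augmentation ideal kills `x^j`. -/
lemma list_prod_apply_pow_of_lt {x : H} (hx : x ∈ SGA3y.primLie k H) :
    ∀ (l : List (WithConv (H →ₗ[k] k))), (∀ ψ ∈ l, ψ ∈ mI k H) → ∀ j, j < l.length →
      l.prod.ofConv (x ^ j) = 0 := by
  intro l
  induction l with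
  | nil => intro _ j hj; simp at hj
  | cons ψ l ih =>
    intro hl j hj
    rw [List.prod_cons, conv_apply_pow_prim hx]
    refine Finset.sum_eq_zero fun m hm => ?_
    rcases Nat.eq_zero_or_pos m with rfl | hm0
    · rw [pow_zero, mem_mI.mp (hl ψ (List.mem_cons_self ..))]
      simp
    · have hlt : j - m < l.length := by
        rw [List.length_cons] at hj
        have := Finset.mem_range.mp hm
        omega
      rw [ih (fun φ hφ => hl φ (List.mem_cons_of_mem _ hφ)) _ hlt]
      simp

/-- The "permanent formula": a product of `n` functionals in the augmentation ideal evaluated on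
`x^n`. -/
lemma list_prod_apply_pow {x : H} (hx : x ∈ SGA3y.primLie k H) :
    ∀ (l : List (WithConv (H →ₗ[k] k))), (∀ ψ ∈ l, ψ ∈ mI k H) →
      l.prod.ofConv (x ^ l.length) =
        (l.length.factorial : k) * (l.map fun ψ => ψ.ofConv x).prod := by
  intro l
  induction l with
  | nil =>
    intro _
    rw [List.prod_nil, List.length_nil, pow_zero, one_ofConv_apply, Bialgebra.counit_one]
    simp
  | cons ψ l ih =>
    intro hl
    have hl' : ∀ φ ∈ l, φ ∈ mI k H := fun φ hφ => hl φ (List.mem_cons_of_mem _ hφ)
    rw [List.prod_cons, List.length_cons, conv_apply_pow_prim hx]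
    rw [Finset.sum_eq_single 1]
    · rw [Nat.choose_one_right, pow_one, Nat.add_sub_cancel, ih hl', List.map_cons, List.prod_cons,
        Nat.factorial_succ]
      push_cast
      ring
    · intro m hm hm1
      rcases Nat.eq_zero_or_pos m with rfl | hm0
      · rw [pow_zero, mem_mI.mp (hl ψ (List.mem_cons_self ..))]
        simp
      · have hlt : l.length + 1 - m < l.length := by
          have := Finset.mem_range.mp hm
          omega
        rw [list_prod_apply_pow_of_lt hx l hl' _ hlt]
        simp
    · intro h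
      exfalso
      apply h
      rw [Finset.mem_range]
      omega

end Groth.Agent.Helper2.CKMM
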