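import Mathlib

/-!
# CKMM, part 6: noncommutative multinomial expansion and polarization
-/

set_option autoImplicit false

namespace Groth.Agent.Helper2.CKMM

open Finset

universe u v

section Expand

variable {R : Type u} [Ring R]

/-- ordered product of a tuple -/
def prodFn {n : ℕ} (y : Fin n → R) : R := (List.ofFn y).prod

lemma prodFn_zero (y : Fin 0 → R) : prodFn y = 1 := by
  simp [prodFn]

lemma prodFn_succ {n : ℕ} (y : Fin (n + 1) → R) :
    prodFn y = y 0 * prodFn (fun i : Fin n => y i.succ) := by
  simp [prodFn, List.ofFn_succ]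

lemma prodFn_cons {n : ℕ} (a : R) (y : Fin n → R) :
    prodFn (Fin.cons a y : Fin (n + 1) → R) = a * prodFn y := by
  rw [prodFn_succ]
  simp

/-- Noncommutative multinomial expansion. -/
lemma sum_pow_eq {α : Type v} [Fintype α] (z : α → R) (n : ℕ) :
    (∑ i, z i) ^ n = ∑ w : Fin n → α, prodFn (fun s => z (w s)) := by
  induction n with
  | zero =>
    rw [pow_zero]
    simp [prodFn_zero]
  | succ n ih =>
    rw [pow_succ', ih, Finset.sum_mul_sum]
    rw [← (Fin.consEquiv (fun _ : Fin (n + 1) => α)).sum_comp, Fintype.sum_prod_type]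
    refine Finset.sum_congr rfl fun i _ => Finset.sum_congr rfl fun w _ => ?_
    rw [prodFn_succ]
    simp [Fin.consEquiv]

lemma prodFn_eq_zero {n : ℕ} (y : Fin n → R) (s : Fin n) (hs : y s = 0) : prodFn y = 0 := by
  rw [prodFn]
  apply List.prod_eq_zero
  rw [List.mem_ofFn]
  exact ⟨s, hs⟩

/-- Polarization: the alternating sum of powers of partial sums is the sum of the ordered products
over all bijective words. -/
lemma polarization {n : ℕ} (y : Fin n → R) :
    ∑ S : Finset (Fin n), ((-1 : ℤ) ^ S.card) • (∑ i, if i ∈ S then 0 else y i) ^ n =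
      ∑ w : Fin n → Fin n, if Function.Surjective w then prodFn (fun s => y (w s)) else 0 := by
  classical
  have h1 : ∀ S : Finset (Fin n), (∑ i, if i ∈ S then 0 else y i) ^ n =
      ∑ w : Fin n → Fin n, if (∀ s, w s ∉ S) then prodFn (fun s => y (w s)) else 0 := by
    intro S
    rw [sum_pow_eq]
    refine Finset.sum_congr rfl fun w _ => ?_
    split_ifs with h
    · congr 1
      ext s
      rw [if_neg (h s)]
    · push Not at h
      obtain ⟨s, hs⟩ := h
      exact prodFn_eq_zero _ s (if_pos hs)
  simp_rw [h1, Finset.smul_sum]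
  rw [Finset.sum_comm]
  refine Finset.sum_congr rfl fun w _ => ?_
  -- inner sum over S
  have h2 : ∀ S : Finset (Fin n), ((-1 : ℤ) ^ S.card) •
      (if (∀ s, w s ∉ S) then prodFn (fun s => y (w s)) else 0) =
      (if S ∈ ((Finset.univ.image w)ᶜ).powerset then ((-1 : ℤ) ^ S.card) else 0) •
        prodFn (fun s => y (w s)) := by
    intro S
    have hiff : (∀ s, w s ∉ S) ↔ S ∈ ((Finset.univ.image w)ᶜ).powerset := by
      rw [Finset.mem_powerset]
      constructor
      · intro h a ha
        rw [Finset.mem_compl, Finset.mem_image]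
        rintro ⟨s, -, rfl⟩
        exact h s ha
      · intro h s hs
        have := h hs
        rw [Finset.mem_compl, Finset.mem_image] at this
        exact this ⟨s, Finset.mem_univ _, rfl⟩
    by_cases hS : ∀ s, w s ∉ S
    · rw [if_pos hS, if_pos (hiff.mp hS)]
    · rw [if_neg hS, if_neg (fun h => hS (hiff.mpr h)), smul_zero, zero_smul]
  simp_rw [h2]
  rw [← Finset.sum_smul, Finset.sum_ite_mem, Finset.univ_inter,
    Finset.sum_powerset_neg_one_pow_card]
  by_cases hw : Function.Surjective w
  · rw [if_pos hw, if_pos, one_smul]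
    rw [Finset.compl_eq_empty_iff, Finset.image_univ_of_surjective hw]
  · rw [if_neg hw, if_neg, zero_smul]
    intro h
    apply hw
    rw [Finset.compl_eq_empty_iff] at h
    intro a
    have : a ∈ Finset.univ.image w := by rw [h]; exact Finset.mem_univ _
    obtain ⟨s, -, rfl⟩ := Finset.mem_image.mp this
    exact ⟨s, rfl⟩

end Expand

end Groth.Agent.Helper2.CKMM
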