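import Mathlib
import Groth.Agent.Lib.Helper2.CKMM.Polar

/-!
# CKMM, part 7: an algebra generated by a commutator-closed subspace is spanned by powers
(characteristic zero)
-/

set_option autoImplicit false

namespace Groth.Agent.Helper2.CKMM

open Finset

universe u v

variable {k : Type u} [Field k] {R : Type v} [Ring R] [Algebra k R] (V : Submodule k R)

/-- span of products of at most `n` elements of `V` -/
def Fil (n : ℕ) : Submodule k R :=
  Submodule.span k {u | ∃ l : List R, (∀ a ∈ l, a ∈ V) ∧ l.length ≤ n ∧ u = l.prod}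

/-- span of `n`-th powers of elements of `V` -/
def Pw (n : ℕ) : Submodule k R := Submodule.span k {u | ∃ v ∈ V, u = v ^ n}

variable {V}

lemma prod_mem_Fil {l : List R} (hl : ∀ a ∈ l, a ∈ V) {n : ℕ} (h : l.length ≤ n) :
    l.prod ∈ Fil V n :=
  Submodule.subset_span ⟨l, hl, h, rfl⟩

lemma Fil_mono {m n : ℕ} (h : m ≤ n) : Fil V m ≤ Fil V n := by
  apply Submodule.span_mono
  rintro u ⟨l, hl, hlen, rfl⟩
  exact ⟨l, hl, hlen.trans h, rfl⟩

lemma mul_mem_Fil {a : R} (ha : a ∈ V) {n : ℕ} {u : R} (hu : u ∈ Fil V n) :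
    a * u ∈ Fil V (n + 1) := by
  induction hu using Submodule.span_induction with
  | mem u hu =>
    obtain ⟨l, hl, hlen, rfl⟩ := hu
    rw [← List.prod_cons]
    apply prod_mem_Fil
    · intro b hb
      rcases List.mem_cons.mp hb with rfl | hb
      · exact ha
      · exact hl b hb
    · simp only [List.length_cons]
      omega
  | zero => rw [mul_zero]; exact Submodule.zero_mem _
  | add x y _ _ hx hy => rw [mul_add]; exact Submodule.add_mem _ hx hy
  | smul c x _ hx => rw [mul_smul_comm]; exact Submodule.smul_mem _ _ hx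

/-- Permuting the factors changes a product of elements of `V` only by lower-order terms. -/
lemma perm_sub_mem (hV : ∀ a ∈ V, ∀ b ∈ V, a * b - b * a ∈ V) :
    ∀ {l₁ l₂ : List R}, l₁.Perm l₂ → (∀ a ∈ l₁, a ∈ V) →
      l₁.prod - l₂.prod ∈ Fil V (l₁.length - 1) := by
  intro l₁ l₂ hp
  induction hp with
  | nil => intro _; simp
  | cons x hp ih =>
    rename_i l₁ l₂
    intro hl
    have hl' : ∀ a ∈ l₁, a ∈ V := fun a ha => hl a (List.mem_cons_of_mem _ ha)
    have hx : x ∈ V := hl x (List.mem_cons_self ..)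
    rw [List.prod_cons, List.prod_cons, ← mul_sub]
    rcases l₁ with _ | ⟨b, l₁⟩
    · rw [List.perm_nil.mp hp.symm]
      simp
    · have := mul_mem_Fil hx (ih hl')
      simpa using this
  | swap x y l =>
    intro hl
    have hx : x ∈ V := hl x (by simp)
    have hy : y ∈ V := hl y (by simp)
    have hl' : ∀ a ∈ l, a ∈ V := fun a ha => hl a (by simp [ha])
    have : (y :: x :: l).prod - (x :: y :: l).prod = ((y * x - x * y) :: l).prod := by
      simp only [List.prod_cons]
      rw [sub_mul, mul_assoc, mul_assoc]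
    rw [this]
    apply prod_mem_Fil
    · intro b hb
      rcases List.mem_cons.mp hb with rfl | hb
      · exact hV y hy x hx
      · exact hl' b hb
    · simp
  | trans h₁ h₂ ih₁ ih₂ =>
    rename_i l₁ l₂ l₃
    intro hl
    have hl₂ : ∀ a ∈ l₂, a ∈ V := fun a ha => hl a (h₁.mem_iff.mpr ha)
    have : l₁.prod - l₃.prod = (l₁.prod - l₂.prod) + (l₂.prod - l₃.prod) := by abel
    rw [this]
    refine Submodule.add_mem _ (ih₁ hl) ?_
    rw [h₁.length_eq]
    exact ih₂ hl₂

variable [CharZero k]

/-- A product of `n` elements of `V` is a combination of `n`-th powers modulo lower-order terms. -/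
lemma prodFn_mem (hV : ∀ a ∈ V, ∀ b ∈ V, a * b - b * a ∈ V) {n : ℕ} (y : Fin n → R)
    (hy : ∀ i, y i ∈ V) : prodFn y ∈ Pw V n ⊔ Fil V (n - 1) := by
  classical
  set F := (Finset.univ : Finset (Fin n → Fin n)).filter Function.Surjective with hF
  have hid : (id : Fin n → Fin n) ∈ F := by
    rw [hF, Finset.mem_filter]
    exact ⟨Finset.mem_univ _, Function.surjective_id⟩
  have hc : (F.card : k) ≠ 0 := by
    rw [Nat.cast_ne_zero]
    exact Finset.card_ne_zero.mpr ⟨_, hid⟩
  -- the polarization sum lies in `Pw`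
  have h1 : (∑ w : Fin n → Fin n, if Function.Surjective w then prodFn (fun s => y (w s)) else 0)
      ∈ Pw V n := by
    rw [← polarization]
    refine Submodule.sum_mem _ fun S _ => ?_
    rw [← Int.cast_smul_eq_zsmul k]
    refine Submodule.smul_mem _ _ (Submodule.subset_span ⟨_, ?_, rfl⟩)
    refine Submodule.sum_mem _ fun i _ => ?_
    split_ifs
    · exact Submodule.zero_mem _
    · exact hy i
  have h2 : (∑ w : Fin n → Fin n, if Function.Surjective w then prodFn (fun s => y (w s)) else 0) =
      ∑ w ∈ F, (prodFn (fun s => y (w s)) - prodFn y) + (F.card : k) • prodFn y := by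
    rw [Finset.sum_sub_distrib, Finset.sum_const, Nat.cast_smul_eq_nsmul, sub_add_cancel, hF,
      Finset.sum_filter]
  have h3 : ∑ w ∈ F, (prodFn (fun s => y (w s)) - prodFn y) ∈ Fil V (n - 1) := by
    refine Submodule.sum_mem _ fun w hw => ?_
    rw [hF, Finset.mem_filter] at hw
    have hbij : Function.Bijective w := ⟨Finite.injective_iff_surjective.mpr hw.2, hw.2⟩
    let σ : Equiv.Perm (Fin n) := Equiv.ofBijective w hbij
    have hperm : (List.ofFn (fun s => y (w s))).Perm (List.ofFn y) := σ.ofFn_comp_perm y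
    have := perm_sub_mem hV hperm (by
      intro a ha
      rw [List.mem_ofFn] at ha
      obtain ⟨s, rfl⟩ := ha
      exact hy _)
    rwa [List.length_ofFn] at this
  have h4 : (F.card : k) • prodFn y ∈ Pw V n ⊔ Fil V (n - 1) := by
    have : (F.card : k) • prodFn y =
        (∑ w : Fin n → Fin n, if Function.Surjective w then prodFn (fun s => y (w s)) else 0) -
          ∑ w ∈ F, (prodFn (fun s => y (w s)) - prodFn y) := by
      rw [h2]; abel
    rw [this]
    exact Submodule.sub_mem _ (Submodule.mem_sup_left h1) (Submodule.mem_sup_right h3)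
  have : prodFn y = (F.card : k)⁻¹ • ((F.card : k) • prodFn y) := by
    rw [smul_smul, inv_mul_cancel₀ hc, one_smul]
  rw [this]
  exact Submodule.smul_mem _ _ h4

lemma Fil_le_iSup_Pw (hV : ∀ a ∈ V, ∀ b ∈ V, a * b - b * a ∈ V) (n : ℕ) :
    Fil V n ≤ ⨆ m, Pw V m := by
  induction n with
  | zero =>
    rw [Fil, Submodule.span_le]
    rintro u ⟨l, -, hlen, rfl⟩
    have : l = [] := List.length_eq_zero_iff.mp (Nat.le_zero.mp hlen)
    rw [this, List.prod_nil]
    refine Submodule.mem_iSup_of_mem 0 (Submodule.subset_span ⟨0, Submodule.zero_mem _, ?_⟩)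
    rw [pow_zero]
  | succ n ih =>
    rw [Fil, Submodule.span_le]
    rintro u ⟨l, hl, hlen, rfl⟩
    rcases Nat.lt_or_ge l.length (n + 1) with h | h
    · exact ih (prod_mem_Fil hl (Nat.lt_succ_iff.mp h))
    · have hlen' : l.length = n + 1 := le_antisymm hlen h
      have h1 := prodFn_mem hV (fun i : Fin l.length => l.get i) (fun i => hl _ (List.get_mem ..))
      rw [prodFn, List.ofFn_get, hlen', Nat.add_sub_cancel] at h1
      exact (sup_le (le_iSup (Pw V) (n + 1)) ih) h1

/-- If `V` generates the algebra, every element lies in some `Fil V n`. -/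
lemma exists_mem_Fil (hgen : Algebra.adjoin k (V : Set R) = ⊤) (u : R) : ∃ n, u ∈ Fil V n := by
  have key : ∀ u : R, u ∈ Algebra.adjoin k (V : Set R) →
      ∀ v : R, (∃ n, v ∈ Fil V n) → ∃ n, u * v ∈ Fil V n := by
    intro u hu
    induction hu using Algebra.adjoin_induction with
    | mem a ha =>
      rintro v ⟨n, hn⟩
      exact ⟨n + 1, mul_mem_Fil ha hn⟩
    | algebraMap c =>
      rintro v ⟨n, hn⟩
      refine ⟨n, ?_⟩
      rw [← Algebra.smul_def]
      exact Submodule.smul_mem _ _ hn
    | add a b _ _ ha hb =>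
      intro v hv
      obtain ⟨n₁, h₁⟩ := ha v hv
      obtain ⟨n₂, h₂⟩ := hb v hv
      refine ⟨max n₁ n₂, ?_⟩
      rw [add_mul]
      exact Submodule.add_mem _ (Fil_mono (le_max_left _ _) h₁) (Fil_mono (le_max_right _ _) h₂)
    | mul a b _ _ ha hb =>
      intro v hv
      rw [mul_assoc]
      exact ha _ (hb v hv)
  have h1 : ∃ n, (1 : R) ∈ Fil V n := ⟨0, by
    have := prod_mem_Fil (V := V) (l := []) (by simp) (n := 0) (by simp)
    simpa using this⟩
  have := key u (by rw [hgen]; trivial) 1 h1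
  simpa using this

/-- **Spanning by powers.** -/
theorem iSup_Pw_eq_top (hV : ∀ a ∈ V, ∀ b ∈ V, a * b - b * a ∈ V)
    (hgen : Algebra.adjoin k (V : Set R) = ⊤) : ⨆ m, Pw V m = ⊤ := by
  rw [eq_top_iff]
  intro u _
  obtain ⟨n, hn⟩ := exists_mem_Fil hgen u
  exact Fil_le_iSup_Pw hV n hn

end Groth.Agent.Helper2.CKMM
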