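import Mathlib
import Groth.Prelude.Def_SGA3y
import Groth.Agent.Lib.Helper2.CKMM.Pow
import Groth.Agent.Lib.Helper2.CKMM.Span

/-!
# CKMM, part 8: injectivity
-/

set_option autoImplicit false

attribute [local instance] LieRing.ofAssociativeRing

namespace Groth.Agent.Helper2.CKMM

open TensorProduct Coalgebra WithConv Groth.Agent.Helper9

universe u v w

section Ring

variable {k : Type u} [Field k] {R : Type w} [Ring R] [Algebra k R]

lemma prodFn_smul {n : ℕ} (c : Fin n → k) (y : Fin n → R) :
    prodFn (fun s => c s • y s) = (∏ s, c s) • prodFn y := by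
  induction n with
  | zero => simp [prodFn_zero]
  | succ n ih =>
    rw [prodFn_succ, prodFn_succ y, Fin.prod_univ_succ, ih, smul_mul_smul_comm]

end Ring

variable {k : Type u} [Field k] [CharZero k] {H : Type v} [Ring H] [Bialgebra k H] [IsCocomm k H]
variable {R : Type w} [Ring R] [Algebra k R] (f : R →ₐ[k] H) (V : Submodule k R)
variable (hfV : ∀ v ∈ V, f v ∈ SGA3y.primLie k H) (hinj : ∀ v ∈ V, f v = 0 → v = 0)

include hfV hinj in
/-- `f` is injective on the span of `n`-th powers of elements of `V`. -/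
lemma eq_zero_of_mem_Pw {n : ℕ} {u : R} (hu : u ∈ Pw V n) (hfu : f u = 0) : u = 0 := by
  classical
  rw [Pw, Submodule.mem_span_set'] at hu
  obtain ⟨N, c, g, rfl⟩ := hu
  choose x hxV hx using fun j => (g j).2
  -- the finite-dimensional subspace spanned by the `x j`
  let V₀ : Submodule k R := Submodule.span k (Set.range x)
  have hV₀ : V₀ ≤ V := Submodule.span_le.mpr (by rintro _ ⟨j, rfl⟩; exact hxV j)
  haveI : Module.Finite k V₀ := Module.Finite.span_of_finite k (Set.finite_range x)
  let b := Module.finBasis k V₀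
  let r := Module.finrank k V₀
  let e : Fin r → R := fun i => (b i : R)
  have hx₀ : ∀ j, x j ∈ V₀ := fun j => Submodule.subset_span ⟨j, rfl⟩
  let a : Fin N → Fin r → k := fun j i => b.repr ⟨x j, hx₀ j⟩ i
  have hxa : ∀ j, x j = ∑ i, a j i • e i := by
    intro j
    have := b.sum_repr ⟨x j, hx₀ j⟩
    have h2 := congrArg (Submodule.subtype V₀) this
    rw [map_sum] at h2
    simp only [map_smul, Submodule.subtype_apply] at h2
    exact h2.symm
  -- functionals
  let g₀ : V₀ →ₗ[k] H := f.toLinearMap ∘ₗ V₀.subtype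
  have hg₀ : LinearMap.ker g₀ = ⊥ := by
    rw [eq_bot_iff]
    intro v hv
    rw [LinearMap.mem_ker] at hv
    have : (v : R) = 0 := hinj _ (hV₀ v.2) hv
    rw [Submodule.mem_bot]
    exact Subtype.ext this
  obtain ⟨ρ, hρ⟩ := LinearMap.exists_leftInverse_of_injective g₀ hg₀
  let φ' : Fin r → (H →ₗ[k] k) := fun i => (b.coord i) ∘ₗ ρ
  let φ : Fin r → WithConv (H →ₗ[k] k) := fun i =>
    toConv (φ' i) - ((φ' i) 1) • (1 : WithConv (H →ₗ[k] k))
  have hφm : ∀ i, φ i ∈ mI k H := fun i => sub_smul_one_mem_mI (toConv (φ' i))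
  have hφ : ∀ (i : Fin r) (v : V₀), (φ i).ofConv (f v) = b.repr v i := by
    intro i v
    have h1 : ρ (f (v : R)) = v := LinearMap.congr_fun hρ v
    simp only [φ, φ', ofConv_sub, ofConv_smul, LinearMap.sub_apply, LinearMap.smul_apply,
      one_ofConv_apply, ofConv_toConv, LinearMap.comp_apply, h1,
      counit_eq_zero_of_mem_primLie (hfV _ (hV₀ v.2))]
    simp
  -- the coefficients
  let B : (Fin n → Fin r) → k := fun w => ∑ j, c j * ∏ s, a j (w s)
  -- expansion of `u`
  have hexp : ∑ j, c j • ((g j : R)) = ∑ w : Fin n → Fin r, B w • prodFn (fun s => e (w s)) := by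
    have h1 : ∀ j, ((g j : R)) = ∑ w : Fin n → Fin r, (∏ s, a j (w s)) • prodFn (fun s => e (w s)) := by
      intro j
      rw [hx j, hxa j, sum_pow_eq]
      refine Finset.sum_congr rfl fun w _ => ?_
      exact prodFn_smul (fun s => a j (w s)) (fun s => e (w s))
    simp_rw [B, Finset.sum_smul]
    rw [Finset.sum_comm]
    refine Finset.sum_congr rfl fun j _ => ?_
    rw [h1 j, Finset.smul_sum]
    refine Finset.sum_congr rfl fun w _ => ?_
    rw [smul_smul]
  -- the coefficients vanish
  have hB : ∀ w, B w = 0 := by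
    intro w
    let l : List (WithConv (H →ₗ[k] k)) := List.ofFn (fun s => φ (w s))
    have hl : ∀ ψ ∈ l, ψ ∈ mI k H := by
      intro ψ hψ
      rw [List.mem_ofFn] at hψ
      obtain ⟨s, rfl⟩ := hψ
      exact hφm _
    have hlen : l.length = n := List.length_ofFn
    have h0 : l.prod.ofConv (f (∑ j, c j • ((g j : R)))) = 0 := by rw [hfu, map_zero]
    rw [map_sum, map_sum] at h0
    have h1 : ∀ j, l.prod.ofConv (f (c j • ((g j : R)))) =
        c j * ((n.factorial : k) * ∏ s, a j (w s)) := by
      intro j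
      rw [map_smul, map_smul, hx j, map_pow, smul_eq_mul]
      congr 1
      have := list_prod_apply_pow (hfV _ (hxV j)) l hl
      rw [hlen] at this
      rw [this]
      congr 1
      simp only [l, List.map_ofFn, List.prod_ofFn]
      refine Finset.prod_congr rfl fun s _ => ?_
      exact hφ (w s) ⟨x j, hx₀ j⟩
    simp_rw [h1] at h0
    have h2 : (n.factorial : k) * B w = 0 := by
      rw [← h0, Finset.mul_sum]
      refine Finset.sum_congr rfl fun j _ => ?_
      ring
    have hfact : (n.factorial : k) ≠ 0 := Nat.cast_ne_zero.mpr (Nat.factorial_ne_zero n)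
    exact (mul_eq_zero.mp h2).resolve_left hfact
  rw [hexp]
  simp [hB]

/-- Eigenvectors of `Ψ²` for distinct eigenvalues `2^m` are independent. -/
lemma eq_zero_of_sum_eigen (s : Finset ℕ) :
    ∀ (v : ℕ → H), (∀ m ∈ s, psi2 (k := k) (v m) = ((2 : k) ^ m) • v m) → ∑ m ∈ s, v m = 0 →
      ∀ m ∈ s, v m = 0 := by
  classical
  induction s using Finset.induction_on with
  | empty => intro v _ _ m hm; simp at hm
  | insert m₀ s hm₀ ih =>
    intro v hv hsum
    rw [Finset.sum_insert hm₀] at hsum
    have h1 := congrArg (psi2 (k := k)) hsum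
    rw [map_add, map_sum, map_zero, hv m₀ (Finset.mem_insert_self ..)] at h1
    have h2 : ∑ m ∈ s, ((2 : k) ^ m - (2 : k) ^ m₀) • v m = 0 := by
      have h3 : ∑ m ∈ s, psi2 (k := k) (v m) = ∑ m ∈ s, ((2 : k) ^ m) • v m :=
        Finset.sum_congr rfl fun m hm => hv m (Finset.mem_insert_of_mem hm)
      rw [h3] at h1
      have h4 := congrArg (fun z => ((2 : k) ^ m₀) • z) hsum
      simp only [smul_add, smul_zero, Finset.smul_sum] at h4
      simp_rw [sub_smul]
      rw [Finset.sum_sub_distrib]
      have : ∑ m ∈ s, (2 : k) ^ m • v m = -((2 : k) ^ m₀ • v m₀) := by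
        rw [eq_neg_iff_add_eq_zero, add_comm]; exact h1
      have h5 : ∑ m ∈ s, (2 : k) ^ m₀ • v m = -((2 : k) ^ m₀ • v m₀) := by
        rw [eq_neg_iff_add_eq_zero, add_comm]; exact h4
      rw [this, h5, sub_self]
    have h3 := ih (fun m => ((2 : k) ^ m - (2 : k) ^ m₀) • v m) (by
      intro m hm
      rw [map_smul, hv m (Finset.mem_insert_of_mem hm), smul_comm]) h2
    have h4 : ∀ m ∈ s, v m = 0 := by
      intro m hm
      have h5 := h3 m hm
      have hne : (2 : k) ^ m - (2 : k) ^ m₀ ≠ 0 := by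
        rw [sub_ne_zero]
        intro h
        have h' : ((2 ^ m : ℕ) : k) = ((2 ^ m₀ : ℕ) : k) := by push_cast; exact h
        have h'' := Nat.cast_injective h'
        have : m = m₀ := Nat.pow_right_injective (le_refl 2) h''
        exact hm₀ (this ▸ hm)
      exact (smul_eq_zero.mp h5).resolve_left hne
    intro m hm
    rcases Finset.mem_insert.mp hm with rfl | hm
    · rw [Finset.sum_eq_zero h4, add_zero] at hsum
      exact hsum
    · exact h4 m hm

include hfV in
lemma psi2_map_of_mem_Pw {n : ℕ} {u : R} (hu : u ∈ Pw V n) :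
    psi2 (k := k) (f u) = ((2 : k) ^ n) • f u := by
  induction hu using Submodule.span_induction with
  | mem u hu =>
    obtain ⟨v, hv, rfl⟩ := hu
    rw [map_pow]
    exact psi2_pow_prim (hfV v hv) n
  | zero => simp
  | add x y _ _ hx hy => rw [map_add, map_add, hx, hy, smul_add]
  | smul c x _ hx => rw [map_smul, map_smul, hx, smul_comm]

include hfV hinj in
/-- **Injectivity.** -/
theorem injective_of_prim (hV : ∀ a ∈ V, ∀ b ∈ V, a * b - b * a ∈ V)
    (hgen : Algebra.adjoin k (V : Set R) = ⊤) : Function.Injective f := by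
  rw [injective_iff_map_eq_zero]
  intro u hu
  have hu' : u ∈ ⨆ m, Pw V m := by rw [iSup_Pw_eq_top hV hgen]; trivial
  rw [Submodule.mem_iSup_iff_exists_finsupp] at hu'
  obtain ⟨g, hg, rfl⟩ := hu'
  have h1 : ∑ m ∈ g.support, f (g m) = 0 := by
    rw [← map_sum]
    exact hu
  have h2 := eq_zero_of_sum_eigen (k := k) g.support (fun m => f (g m))
    (fun m _ => psi2_map_of_mem_Pw f V hfV (hg m)) h1
  rw [Finsupp.sum]
  refine Finset.sum_eq_zero fun m hm => ?_
  exact eq_zero_of_mem_Pw f V hfV hinj (hg m) (h2 m hm)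

end Groth.Agent.Helper2.CKMM
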