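import Mathlib
import Groth.Prelude.Def_SGA3y
import Groth.Agent.Lib.Helper2.CKMM.Surj
import Groth.Agent.Lib.Helper2.CKMM.Inj

/-!
# CKMM: the theorem of Cartier–Kostant–Milnor–Moore
-/

set_option autoImplicit false

attribute [local instance] LieRing.ofAssociativeRing

namespace Groth.Agent.Helper2.CKMM

open TensorProduct Coalgebra

universe u v

section UEA

variable {k : Type u} [Field k] {L : Type v} [LieRing L] [LieAlgebra k L]

/-- The universal enveloping algebra is generated by the image of the Lie algebra. -/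
lemma adjoin_range_ι :
    Algebra.adjoin k
      ((LinearMap.range ((UniversalEnvelopingAlgebra.ι k : L →ₗ⁅k⁆ _) : L →ₗ[k] _) :
        Submodule k (UniversalEnvelopingAlgebra k L)) : Set (UniversalEnvelopingAlgebra k L)) = ⊤ := by
  have h1 : (Algebra.adjoin k (Set.range (TensorAlgebra.ι k (M := L)))).map
      (UniversalEnvelopingAlgebra.mkAlgHom k L) = ⊤ := by
    rw [TensorAlgebra.adjoin_range_ι, Algebra.map_top, AlgHom.range_eq_top]
    exact RingCon.mkₐ_surjective _
  rw [AlgHom.map_adjoin, ← Set.range_comp] at h1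
  rw [← h1]
  congr 1

end UEA

variable (k : Type u) [Field k] [CharZero k] (H : Type u) [Ring H] [Bialgebra k H]
  [Coalgebra.IsCocomm k H]

/-- **Cartier–Kostant–Milnor–Moore.** -/
theorem ckmm (hconn : SGA3y.IsConnectedCoalg k H) :
    Function.Bijective (UniversalEnvelopingAlgebra.lift k (SGA3y.primLie k H).incl) := by
  set f := UniversalEnvelopingAlgebra.lift k (SGA3y.primLie k H).incl with hf
  let V : Submodule k (UniversalEnvelopingAlgebra k (SGA3y.primLie k H)) :=
    LinearMap.range ((UniversalEnvelopingAlgebra.ι k :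
      (SGA3y.primLie k H) →ₗ⁅k⁆ _) : (SGA3y.primLie k H) →ₗ[k] _)
  have hfι : ∀ x : SGA3y.primLie k H, f (UniversalEnvelopingAlgebra.ι k x) = (x : H) := by
    intro x
    rw [hf, UniversalEnvelopingAlgebra.lift_ι_apply]
    rfl
  have hfV : ∀ v ∈ V, f v ∈ SGA3y.primLie k H := by
    rintro _ ⟨x, rfl⟩
    change f (UniversalEnvelopingAlgebra.ι k x) ∈ _
    rw [hfι]
    exact x.2
  have hinj : ∀ v ∈ V, f v = 0 → v = 0 := by
    rintro _ ⟨x, rfl⟩ h
    change f (UniversalEnvelopingAlgebra.ι k x) = 0 at h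
    rw [hfι] at h
    have : x = 0 := Subtype.ext h
    rw [this, map_zero]
  have hV : ∀ a ∈ V, ∀ b ∈ V, a * b - b * a ∈ V := by
    rintro _ ⟨x, rfl⟩ _ ⟨y, rfl⟩
    refine ⟨⁅x, y⁆, ?_⟩
    change UniversalEnvelopingAlgebra.ι k ⁅x, y⁆ = _
    rw [LieHom.map_lie, LieRing.of_associative_ring_bracket]
    rfl
  constructor
  · exact injective_of_prim f V hfV hinj hV adjoin_range_ι
  · have h1 : f.range = ⊤ := by
      apply subalgebra_eq_top hconn
      intro x hx
      exact ⟨UniversalEnvelopingAlgebra.ι k ⟨x, hx⟩, hfι ⟨x, hx⟩⟩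
    rw [← AlgHom.range_eq_top]
    exact h1

end Groth.Agent.Helper2.CKMM
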